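import Cfsg.Agent.CentCoatom.Main
import Cfsg.Agent.FusSys.ThompsonA
import Cfsg.Agent.FusSys.CenterFactor
import Cfsg.Agent.Fusion.FixedPointFree
import Cfsg.Agent.SylowFifteen.Small
import Cfsg.Agent.ThreeInv.Quadratic

/-!
Normal subgroups in which the centralisers of non-central elements are maximal in the whole group:
solvability.
-/

set_option autoImplicit false
set_option linter.unusedSectionVars false
set_option linter.style.haveILetI false

namespace Cfsg.Agent.RelCentCoatom

open Subgroup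
open scoped commutatorElement
open TwoClassSizes (le_of_primePow_mem center_le_centralizer_singleton
  centralizer_le_of_mem_zpowers)

universe u

variable {G : Type u} [Group G] [Finite G] {N : Subgroup G}

local notation "C[" x "]" => Subgroup.centralizer ({x} : Set _)

/-- The centralisers of the elements of `N` outside its centraliser are maximal. -/
def Hyp (N : Subgroup G) : Prop :=
  ∀ x ∈ N, x ∉ centralizer (N : Set G) → IsCoatom C[x]

theorem top_ne {x : G} (hx : x ∉ centralizer (N : Set G)) : ¬ N ≤ C[x] := fun h =>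
  hx (mem_centralizer_iff.mpr fun n hn => mem_centralizer_singleton_iff.mp (h hn))

theorem Hyp.eq_of_le (h : Hyp N) {x y : G} (hxN : x ∈ N) (hx : x ∉ centralizer (N : Set G))
    (hy : y ∉ centralizer (N : Set G)) (hle : C[x] ≤ C[y]) : C[x] = C[y] := by
  rcases (h x hxN hx).le_iff.mp hle with e | e
  · exact absurd (le_top.trans e.ge) (top_ne hy)
  · exact e.symm

theorem Hyp.eq_of_commute_coprime (h : Hyp N) {x y : G} (hxy : Commute x y)
    (hcop : (orderOf x).Coprime (orderOf y)) (hxN : x ∈ N) (hyN : y ∈ N)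
    (hx : x ∉ centralizer (N : Set G)) (hy : y ∉ centralizer (N : Set G)) : C[x] = C[y] := by
  have key : ∀ a b : G, Commute a b → (orderOf a).Coprime (orderOf b) → a ∈ zpowers (a * b) := by
    intro a b hab hc
    obtain ⟨m, hm1, hm2⟩ := Nat.chineseRemainder hc 1 0
    refine ⟨(m : ℤ), ?_⟩
    show (a * b) ^ (m : ℤ) = a
    rw [zpow_natCast, hab.mul_pow, pow_eq_pow_iff_modEq.mpr hm1, pow_eq_pow_iff_modEq.mpr hm2]
    simp
  have hx' : x ∈ zpowers (x * y) := key x y hxy hcop
  have hy' : y ∈ zpowers (x * y) := hxy.eq ▸ key y x hxy.symm hcop.symm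
  have hxyZ : x * y ∉ centralizer (N : Set G) := fun hz => hx (zpowers_le.mpr hz hx')
  rw [← h.eq_of_le (mul_mem hxN hyN) hxyZ hx (centralizer_le_of_mem_zpowers hx'),
    ← h.eq_of_le (mul_mem hxN hyN) hxyZ hy (centralizer_le_of_mem_zpowers hy')]

theorem exists_primePow_part {x : G} (hx : x ∉ centralizer (N : Set G)) :
    ∃ p : ℕ, p.Prime ∧ ∃ z ∈ zpowers x, z ∉ centralizer (N : Set G) ∧ ∃ k, orderOf z ∣ p ^ k := by
  by_contra hcon
  exact hx (le_of_primePow_mem (H := zpowers x) (K := centralizer (N : Set G))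
    (fun g hg r hr hk => by
      by_contra hgZ
      exact hcon ⟨r, hr, g, hg, hgZ, hk⟩) (mem_zpowers x))

theorem Hyp.isNilpotent_inf (h : Hyp N) {x : G} (hxN : x ∈ N)
    (hx : x ∉ centralizer (N : Set G)) : Group.IsNilpotent ↥(C[x] ⊓ N) := by
  obtain ⟨p, hp, z, hzx, hz, hzp⟩ := exists_primePow_part hx
  haveI := Fact.mk hp
  have hzN : z ∈ N := zpowers_le.mpr hxN hzx
  rw [h.eq_of_le hxN hx hz (centralizer_le_of_mem_zpowers hzx)]
  clear hzx hx hxN x
  obtain ⟨i, hi⟩ := hzp
  by_cases hab : IsMulCommutative ↥(C[z] ⊓ N)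
  · haveI := hab
    letI : CommGroup ↥(C[z] ⊓ N) := { (inferInstance : Group ↥(C[z] ⊓ N)) with
      mul_comm := fun a b => hab.is_comm.comm a b }
    infer_instance
  have hcen : ∀ e ∈ C[z] ⊓ N, ∀ r : ℕ, r.Prime → r ≠ p → (∃ k, orderOf e ∣ r ^ k) →
      e ∈ centralizer (N : Set G) := by
    rintro e ⟨he, heN⟩ r hr hrp ⟨j, hj⟩
    by_contra heZ
    refine hab (le_centralizer_iff_isMulCommutative.mp
      (le_of_primePow_mem fun g hg s hs hgs => ?_))
    obtain ⟨l, hl⟩ := hgs
    obtain ⟨hg, hgN⟩ := mem_inf.mp hg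
    by_cases hgZ : g ∈ centralizer (N : Set G)
    · exact centralizer_le inf_le_right hgZ
    have hCe : C[z] = C[e] := h.eq_of_commute_coprime
      (show Commute z e from (mem_centralizer_singleton_iff.mp he).symm)
      (CentCoatom.coprime_orders hp hr hrp.symm hi hj) hzN heN hz heZ
    have hCg : C[z] = C[g] := by
      by_cases hsp : s = p
      · rw [hCe]
        exact h.eq_of_commute_coprime
          (show Commute e g from (mem_centralizer_singleton_iff.mp (hCe ▸ hg)).symm)
          (CentCoatom.coprime_orders hr hs (hsp ▸ hrp) hj hl) heN hgN heZ hgZ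
      · exact h.eq_of_commute_coprime
          (show Commute z g from (mem_centralizer_singleton_iff.mp hg).symm)
          (CentCoatom.coprime_orders hp hs (Ne.symm hsp) hi hl) hzN hgN hz hgZ
    rw [mem_centralizer_iff]
    intro t ht
    exact mem_centralizer_singleton_iff.mp (hCg ▸ (mem_inf.mp ht).1)
  have hres : pResidual p ↥(C[z] ⊓ N) ≤ center ↥(C[z] ⊓ N) := by
    rw [Cfsg.pResidual, closure_le]
    intro g hg
    have hmem : (g : G) ∈ centralizer (N : Set G) := by
      refine le_of_primePow_mem (H := zpowers (g : G)) (K := centralizer (N : Set G))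
        (fun e he r hr hk => ?_) (mem_zpowers _)
      by_cases hrp : r = p
      · subst hrp
        obtain ⟨k, hk⟩ := hk
        have hg' : (orderOf (g : G)).Coprime r := by rwa [Subgroup.orderOf_coe]
        rw [orderOf_eq_one_iff.mp (Nat.eq_one_of_dvd_coprimes (Nat.Coprime.pow_right k hg')
          (orderOf_dvd_of_mem_zpowers he) hk)]
        exact one_mem _
      · exact hcen e (zpowers_le.mpr g.2 he) r hr hrp hk
    exact mem_center_iff.mpr fun t => Subtype.ext (mem_centralizer_iff.mp hmem t t.2.2)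
  exact Group.of_quotient_center_nilpotent
    (Fusion.isPGroup_quotient_of_pResidual_le (p := p) _ hres).isNilpotent

/-- A normal `p`-subgroup of `G` in `N` which is not central in `N`. -/
def Big (N : Subgroup G) (p : ℕ) : Prop :=
  ∃ Q : Subgroup G, Q.Normal ∧ Q ≤ N ∧ IsPGroup p Q ∧ ¬ Q ≤ centralizer (N : Set G)

theorem hasNormalPComplement_or_big [N.Normal] (h : Hyp N) {p : ℕ} [Fact p.Prime] (hp : p ≠ 2) :
    HasNormalPComplement p N ∨ Big N p := by
  obtain ⟨S₀⟩ : Nonempty (Sylow p N) := inferInstance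
  by_cases hc : ∀ z : N, z ∈ (S₀ : Subgroup N) → (z : G) ∈ centralizer (N : Set G)
  · refine Or.inl (SylowFifteen.hasNormalPComplement_of_burnside S₀ fun g _ => ?_)
    exact mem_centralizer_iff.mpr fun s hs =>
      Subtype.ext (mem_centralizer_iff.mp (hc s hs) g g.2).symm
  push Not at hc
  obtain ⟨⟨z, hzN⟩, hzS, hz⟩ := hc
  have hM : IsCoatom C[z] := h z hzN hz
  set A := C[z] ⊓ N with hA
  haveI hAnil : Group.IsNilpotent A := h.isNilpotent_inf hzN hz
  obtain ⟨Q₀⟩ : Nonempty (Sylow p A) := inferInstance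
  haveI hQ₀n : (Q₀ : Subgroup A).Normal :=
    Sylow.normal_of_normalizerCondition (Group.normalizerCondition_of_isNilpotent (G := A)) Q₀
  haveI := Sylow.unique_of_normal Q₀ hQ₀n
  set Q := (Q₀ : Subgroup A).map A.subtype with hQ
  have hQA : Q ≤ A := map_subtype_le _
  have hQp : IsPGroup p Q := Q₀.2.map _
  have hQmax : ∀ T : Subgroup G, T ≤ A → IsPGroup p T → T ≤ Q := fun T hTA hT => by
    obtain ⟨R, hR⟩ := (hT.comap_subtype : IsPGroup p (T.subgroupOf A)).exists_le_sylow
    rw [Subsingleton.elim R Q₀] at hR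
    exact fun t ht => ⟨⟨t, hTA ht⟩, hR (mem_subgroupOf.mpr ht), rfl⟩
  have hAM : ∀ m ∈ C[z], A.map (MulAut.conj m).toMonoidHom = A := fun m hm => by
    refine eq_of_le_of_card_ge ?_ (card_map_of_injective (MulAut.conj m).injective).ge
    rintro _ ⟨a, ⟨ha, haN⟩, rfl⟩
    exact ⟨(C[z]).mul_mem ((C[z]).mul_mem hm ha) ((C[z]).inv_mem hm),
      (inferInstance : N.Normal).conj_mem a haN m⟩
  have hQM : C[z] ≤ normalizer (Q : Set G) := fun m hm => by
    rw [mem_normalizer_iff_map_conj_eq]
    refine eq_of_le_of_card_ge (hQmax _ ?_ (hQp.map _)) (card_map_of_injective (MulAut.conj m).injective).ge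
    exact (map_mono hQA).trans (hAM m hm).le
  have hzQ : z ∈ Q := by
    refine hQmax (zpowers z) (zpowers_le.mpr ⟨mem_centralizer_singleton_iff.mpr rfl, hzN⟩) ?_
      (mem_zpowers z)
    obtain ⟨k, hk⟩ := IsPGroup.iff_orderOf.mp S₀.2 ⟨⟨z, hzN⟩, hzS⟩
    rw [Subgroup.orderOf_mk, Subgroup.orderOf_mk] at hk
    exact IsPGroup.of_card (n := k) (by rw [Nat.card_zpowers, hk])
  have hQN : Q ≤ N := hQA.trans inf_le_right
  obtain ⟨S, hS⟩ := (hQp.comap_subtype : IsPGroup p (Q.subgroupOf N)).exists_le_sylow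
  rcases eq_or_lt_of_le hS with e | hlt
  swap
  · -- a normaliser grows
    refine Or.inr ⟨Q, ?_, hQN, hQp, fun hle => hz (hle hzQ)⟩
    rcases hM.le_iff.mp hQM with e | e
    · exact normalizer_eq_top_iff.mp e
    exfalso
    haveI := S.2.isNilpotent
    have h2 := Group.normalizerCondition_of_isNilpotent (G := S) ((Q.subgroupOf N).subgroupOf S)
      (lt_top_iff_ne_top.mpr fun e' => hlt.not_ge (subgroupOf_eq_top.mp e'))
    obtain ⟨u, hu, huQ⟩ := SetLike.exists_of_lt h2
    have huN : ((u : N) : G) ∈ normalizer (Q : Set G) := by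
      rw [mem_normalizer_iff_map_conj_eq]
      refine eq_of_le_of_card_ge ?_ (card_map_of_injective (MulAut.conj _).injective).ge
      rintro _ ⟨q, hq, rfl⟩
      have hqS : (⟨q, hQN hq⟩ : N) ∈ (S : Subgroup N) := hS (mem_subgroupOf.mpr hq)
      exact (mem_normalizer_iff.mp hu ⟨_, hqS⟩).mp (mem_subgroupOf.mpr (mem_subgroupOf.mpr hq))
    refine huQ (mem_subgroupOf.mpr (mem_subgroupOf.mpr ?_))
    refine hQmax (zpowers ((u : N) : G)) (zpowers_le.mpr ⟨e ▸ huN, (u : N).2⟩) ?_ (mem_zpowers _)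
    obtain ⟨k, hk⟩ := IsPGroup.iff_orderOf.mp S.2 u
    rw [← Subgroup.orderOf_coe, ← Subgroup.orderOf_coe] at hk
    exact IsPGroup.of_card (n := k) (by rw [Nat.card_zpowers, hk])
  -- a Sylow subgroup
  have hSQ : (S : Subgroup N).map N.subtype = Q := by
    rw [← e]
    exact map_comap_eq_self (by rwa [range_subtype])
  have hCS : HasNormalPComplement p
      ↥(centralizer (((S : Subgroup N) ⊓ centralizer ((S : Subgroup N) : Set N) : Subgroup N) : Set N)) := by
    refine Fusion.hasNormalPComplement_of_map_le N.subtype_injective (K := A) ?_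
      (Fusion.hasNormalPComplement_of_isNilpotent hAnil)
    rintro _ ⟨g, hg, rfl⟩
    refine ⟨mem_centralizer_singleton_iff.mpr ?_, g.2⟩
    have hzS' : (⟨z, hzN⟩ : N) ∈ (S : Subgroup N) ⊓ centralizer ((S : Subgroup N) : Set N) := by
      refine ⟨e ▸ mem_subgroupOf.mpr hzQ, mem_centralizer_iff.mpr fun s hs => Subtype.ext ?_⟩
      have hsQ : (s : G) ∈ Q := hSQ ▸ mem_map_of_mem N.subtype hs
      exact mem_centralizer_singleton_iff.mp (hQA hsQ).1
    exact (congrArg Subtype.val (mem_centralizer_iff.mp hg _ hzS')).symm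
  set J := thompsonSubgroupAOf Q with hJ
  have hMJ : C[z] ≤ normalizer (J : Set G) := fun m hm =>
    FusSys.mem_normalizer_thompsonSubgroupAOf (hQM hm)
  have hzJ : z ∈ J := by
    refine ⟨⟨z, hzQ⟩, FusSys.center_le_thompsonSubgroupA (mem_center_iff.mpr fun s => Subtype.ext ?_), rfl⟩
    exact mem_centralizer_singleton_iff.mp (hQA s.2).1
  rcases hM.le_iff.mp hMJ with e' | e'
  · refine Or.inr ⟨J, normalizer_eq_top_iff.mp e', (FusSys.thompsonSubgroupAOf_le Q).trans hQN, ?_,
      fun hle => hz (hle hzJ)⟩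
    exact hQp.to_le (FusSys.thompsonSubgroupAOf_le Q)
  · refine Or.inl (FusSys.hasNormalPComplement_of_thompsonA S ?_ hCS (Or.inl hp))
    refine Fusion.hasNormalPComplement_of_map_le N.subtype_injective (K := A) ?_
      (Fusion.hasNormalPComplement_of_isNilpotent hAnil)
    rintro _ ⟨g, hg, rfl⟩
    refine ⟨e' ▸ ?_, g.2⟩
    rw [hJ, ← hSQ, ← FusSys.thompsonSubgroupAOf_map N.subtype_injective]
    exact le_normalizer_map N.subtype (mem_map_of_mem _ hg)

theorem isSolvable_quotient_coatom {M : Subgroup G} [M.Normal] (hM : IsCoatom M) :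
    Group.IsSolvable (G ⧸ M) := by
  obtain ⟨a, ha⟩ : ∃ a, a ∉ M := by
    by_contra hcon
    push Not at hcon
    exact hM.1 (top_le_iff.mp fun g _ => hcon g)
  have htop : M ⊔ zpowers a = ⊤ :=
    hM.2 _ (lt_of_le_of_ne le_sup_left fun e => ha (e ▸ mem_sup_right (mem_zpowers a)))
  refine solvable_of_surjective (f := (QuotientGroup.mk' M).comp (zpowers a).subtype) fun y => ?_
  obtain ⟨g, rfl⟩ := QuotientGroup.mk'_surjective M y
  have hg : g ∈ ((M ⊔ zpowers a : Subgroup G) : Set G) := htop ▸ mem_top g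
  rw [normal_mul] at hg
  obtain ⟨u, hu, m, hm, rfl⟩ := hg
  exact ⟨⟨m, hm⟩, QuotientGroup.eq.mpr
    (by simpa [mul_assoc] using (inferInstance : M.Normal).conj_mem' u hu m)⟩

theorem isSolvable_of_big [N.Normal] (h : Hyp N) {p r : ℕ} (hp : p.Prime) (hr : r.Prime)
    (hne : p ≠ r) (hbp : Big N p) (hbr : Big N r) : Group.IsSolvable N := by
  obtain ⟨P, hPn, hPN, hPp, hP⟩ := hbp
  obtain ⟨R, hRn, hRN, hRp, hR⟩ := hbr
  haveI := hPn
  haveI := hRn
  haveI := Fact.mk hp
  haveI := Fact.mk hr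
  have hcomm : ∀ x ∈ P, ∀ y ∈ R, Commute x y ∧ (orderOf x).Coprime (orderOf y) := by
    intro x hx y hy
    refine ⟨Subgroup.commute_of_normal_of_disjoint P R hPn hRn
      (IsPGroup.disjoint_of_ne p r hne P R hPp hRp) x y hx hy, ?_⟩
    obtain ⟨i, hi⟩ := IsPGroup.iff_orderOf.mp hPp ⟨x, hx⟩
    obtain ⟨j, hj⟩ := IsPGroup.iff_orderOf.mp hRp ⟨y, hy⟩
    rw [Subgroup.orderOf_mk] at hi hj
    exact CentCoatom.coprime_orders hp hr hne hi.dvd hj.dvd
  obtain ⟨y, hyR, hy⟩ := SetLike.not_le_iff_exists.mp hR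
  obtain ⟨x, hxP, hx⟩ := SetLike.not_le_iff_exists.mp hP
  have hxe : C[x] = C[y] := h.eq_of_commute_coprime (hcomm x hxP y hyR).1 (hcomm x hxP y hyR).2
    (hPN hxP) (hRN hyR) hx hy
  have hall : ∀ x' ∈ P, x' ∉ centralizer (N : Set G) → C[x'] = C[x] := fun x' hx' hx'' => by
    rw [hxe]
    exact h.eq_of_commute_coprime (hcomm x' hx' y hyR).1 (hcomm x' hx' y hyR).2
      (hPN hx') (hRN hyR) hx'' hy
  have hCP : centralizer (P : Set G) = C[x] := by
    refine le_antisymm (centralizer_le (Set.singleton_subset_iff.mpr hxP)) fun m hm =>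
      mem_centralizer_iff.mpr fun x' hx' => ?_
    by_cases hx'' : x' ∈ centralizer (N : Set G)
    · have h1 : x * x' ∉ centralizer (N : Set G) := fun h' => hx (by
        simpa using mul_mem h' (inv_mem hx''))
      have h2 := mem_centralizer_singleton_iff.mp ((hall _ (mul_mem hxP hx') h1).symm ▸ hm)
      have h3 := mem_centralizer_singleton_iff.mp hm
      rw [← mul_assoc, h3, mul_assoc, mul_assoc] at h2
      exact (mul_left_cancel h2).symm
    · exact (mem_centralizer_singleton_iff.mp ((hall x' hx' hx'').symm ▸ hm)).symm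
  haveI : (C[x]).Normal := hCP ▸ inferInstance
  haveI := isSolvable_quotient_coatom (h x (hPN hxP) hx)
  haveI := h.isNilpotent_inf (hPN hxP) hx
  exact solvable_of_ker_le_range (inclusion (inf_le_right : C[x] ⊓ N ≤ N))
    ((QuotientGroup.mk' C[x]).comp N.subtype) fun g hg =>
      ⟨⟨g, ⟨(QuotientGroup.eq_one_iff _).mp hg, g.2⟩⟩, Subtype.ext rfl⟩

/-- `N` is solvable. -/
theorem Hyp.isSolvable [N.Normal] (h : Hyp N) : Group.IsSolvable N := by
  classical
  by_cases h2 : ∃ p r : ℕ, p.Prime ∧ r.Prime ∧ p ≠ r ∧ Big N p ∧ Big N r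
  · obtain ⟨p, r, hp, hr, hne, hbp, hbr⟩ := h2
    exact isSolvable_of_big h hp hr hne hbp hbr
  push Not at h2
  obtain ⟨p, hp, hpu⟩ : ∃ p : ℕ, p.Prime ∧ ∀ r, r.Prime → r ≠ 2 → Big N r → r = p := by
    by_cases h1 : ∃ p : ℕ, p.Prime ∧ Big N p
    · obtain ⟨p, hp, hb⟩ := h1
      exact ⟨p, hp, fun r hr _ hbr => by_contra fun hne => h2 r p hr hp hne hbr hb⟩
    · exact ⟨2, Nat.prime_two, fun r hr _ hbr => absurd ⟨r, hr, hbr⟩ h1⟩
  have hres : ∀ T : Finset ℕ, (∀ r ∈ T, r.Prime ∧ r ≠ 2 ∧ r ≠ p) →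
      ∃ K : Subgroup N, ∃ _ : K.Normal, Group.IsSolvable (N ⧸ K) ∧
        ∀ r ∈ T, (Nat.card K).Coprime r := by
    intro T
    induction T using Finset.induction_on with
    | empty => exact fun _ => ⟨⊤, inferInstance, isSolvable_of_comm fun a b => @Subsingleton.elim _ QuotientGroup.subsingleton_quotient_top _ _,
        fun r hr => absurd hr (Finset.notMem_empty r)⟩
    | @insert a T ha ih =>
      intro hT
      obtain ⟨K, hK, hKs, hKc⟩ := ih fun r hr => hT r (Finset.mem_insert_of_mem hr)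
      haveI := hK
      haveI := hKs
      obtain ⟨hap, ha2, hanp⟩ := hT a (Finset.mem_insert_self _ _)
      haveI := Fact.mk hap
      have hcomp := (hasNormalPComplement_or_big h ha2).resolve_right fun hb => hanp (hpu a hap ha2 hb)
      obtain ⟨L, hL, hLc, k, hk⟩ := Fusion.hasNormalPComplement_iff_exists.mp hcomp
      haveI := hL
      haveI : Group.IsNilpotent (N ⧸ L) := (IsPGroup.of_card (p := a) (n := k) (by rw [← index_eq_card, hk])).isNilpotent
      refine ⟨K ⊓ L, inferInstance, ?_, fun r hr => ?_⟩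
      · haveI : Group.IsSolvable ((N ⧸ K) × (N ⧸ L)) := inferInstance
        refine solvable_of_solvable_injective (f := QuotientGroup.lift (K ⊓ L)
          ((QuotientGroup.mk' K).prod (QuotientGroup.mk' L)) fun g hg => ?_) ?_
        · exact MonoidHom.mem_ker.mpr (Prod.ext ((QuotientGroup.eq_one_iff g).mpr hg.1)
            ((QuotientGroup.eq_one_iff g).mpr hg.2))
        · rw [injective_iff_map_eq_one]
          intro g
          induction g using QuotientGroup.induction_on with
          | H g =>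
            intro hg
            exact (QuotientGroup.eq_one_iff g).mpr ⟨(QuotientGroup.eq_one_iff g).mp (congrArg Prod.fst hg),
              (QuotientGroup.eq_one_iff g).mp (congrArg Prod.snd hg)⟩
      · rcases Finset.mem_insert.mp hr with rfl | hr
        · exact hLc.coprime_dvd_left (card_dvd_of_le inf_le_right)
        · exact (hKc r hr).coprime_dvd_left (card_dvd_of_le inf_le_left)
  obtain ⟨K, hK, hKs, hKc⟩ := hres
    ((Nat.card N).primeFactors.filter fun r => r ≠ 2 ∧ r ≠ p) fun r hr => by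
      obtain ⟨h1, h3⟩ := Finset.mem_filter.mp hr
      exact ⟨Nat.prime_of_mem_primeFactors h1, h3⟩
  haveI := hK
  haveI := hKs
  haveI : Group.IsSolvable K := ThreeInv.isSolvable_two_primes p hp fun r hr hd => by
    by_contra hcon
    push Not at hcon
    have hmem : r ∈ (Nat.card N).primeFactors.filter fun r => r ≠ 2 ∧ r ≠ p :=
      Finset.mem_filter.mpr ⟨Nat.mem_primeFactors.mpr
        ⟨hr, hd.trans (card_subgroup_dvd_card K), Nat.card_pos.ne'⟩, hcon⟩
    exact (hr.coprime_iff_not_dvd.mp (hKc r hmem).symm) hd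
  exact solvable_of_ker_le_range K.subtype (QuotientGroup.mk' K) (by simp)

end Cfsg.Agent.RelCentCoatom
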