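import Cfsg.Agent.RelCentCoatom.Solvable

/-!
Normal subgroups in which the centralisers of non-central elements are maximal in the whole group:
structure.
-/

set_option autoImplicit false
set_option linter.unusedSectionVars false
set_option linter.style.haveILetI false

namespace Cfsg.Agent.RelCentCoatom

open Subgroup
open scoped commutatorElement Pointwise
open TwoClassSizes (le_of_primePow_mem center_le_centralizer_singleton
  centralizer_le_of_mem_zpowers)

universe u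

variable {G : Type u} [Group G] [Finite G] {N : Subgroup G}

local notation "C[" x "]" => Subgroup.centralizer ({x} : Set _)

theorem mem_centre_iff {x : N} : x ∈ center N ↔ (x : G) ∈ centralizer (N : Set G) :=
  ⟨fun h => mem_centralizer_iff.mpr fun n hn =>
      congrArg Subtype.val (mem_center_iff.mp h ⟨n, hn⟩),
    fun h => mem_center_iff.mpr fun n => Subtype.ext (mem_centralizer_iff.mp h n n.2)⟩

/-- Commutators in class two. -/
theorem commutator_pow_right {a b : G} (h : Commute b ⁅a, b⁆) (n : ℕ) :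
    ⁅a, b ^ n⁆ = ⁅a, b⁆ ^ n := by
  induction n with
  | zero => simp
  | succ n ih =>
    calc ⁅a, b ^ (n + 1)⁆ = ⁅a, b⁆ * (b * ⁅a, b ^ n⁆ * b⁻¹) := by
          rw [pow_succ']; simp only [commutatorElement_def]; group
      _ = ⁅a, b⁆ * ⁅a, b⁆ ^ n := by rw [ih, (h.pow_right n).eq, mul_inv_cancel_right]
      _ = _ := (pow_succ' _ _).symm

/-- An abelian normal subgroup over the centre which is minimal. -/
theorem exists_minimal [N.Normal] (hs : Group.IsSolvable N) (hN : ¬ N ≤ centralizer (N : Set G)) :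
    ∃ K : Subgroup G, K.Normal ∧ N ⊓ centralizer (N : Set G) < K ∧ K ≤ N ∧
      (∀ L : Subgroup G, L.Normal → N ⊓ centralizer (N : Set G) ≤ L → L ≤ K →
        L = N ⊓ centralizer (N : Set G) ∨ L = K) ∧
      ⁅K, K⁆ ≤ N ⊓ centralizer (N : Set G) ∧
      ∃ p : ℕ, p.Prime ∧ ∀ k ∈ K, k ^ p ∈ centralizer (N : Set G) := by
  set Z := N ⊓ centralizer (N : Set G) with hZ
  haveI : Z.Normal := inferInstance
  obtain ⟨K, ⟨hKn, hZK, hKN⟩, hKmin⟩ := wellFounded_lt.has_min
    {K : Subgroup G | K.Normal ∧ Z < K ∧ K ≤ N}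
    ⟨N, inferInstance, lt_of_le_of_ne inf_le_left fun e => hN (inf_eq_left.mp e), le_rfl⟩
  haveI := hKn
  have hmin : ∀ L : Subgroup G, L.Normal → Z ≤ L → L ≤ K → L = Z ∨ L = K := by
    intro L hLn hZL hLK
    rcases eq_or_lt_of_le hZL with e | hlt
    · exact Or.inl e.symm
    rcases eq_or_lt_of_le hLK with e | hlt'
    · exact Or.inr e
    exact absurd hlt' (hKmin L ⟨hLn, hlt, hLK.trans hKN⟩)
  have hKc : ⁅K, K⁆ ≤ Z := by
    rcases hmin (⁅K, K⁆ ⊔ Z) inferInstance le_sup_right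
      (sup_le (commutator_le_self K) hZK.le) with e | e
    · exact e ▸ le_sup_left
    exfalso
    have hperf : ⁅K, K⁆ ≤ ⁅⁅K, K⁆, ⁅K, K⁆⁆ := by
      rw [commutator_le]
      intro a ha b hb
      have ha' : a ∈ ((⁅K, K⁆ ⊔ Z : Subgroup G) : Set G) := e.symm ▸ ha
      have hb' : b ∈ ((⁅K, K⁆ ⊔ Z : Subgroup G) : Set G) := e.symm ▸ hb
      rw [mul_normal] at ha' hb'
      obtain ⟨d, hd, z, hz, rfl⟩ := ha'
      obtain ⟨d', hd', z', hz', rfl⟩ := hb'
      have hDN : ⁅K, K⁆ ≤ N := (commutator_le_self K).trans hKN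
      have c1 : ∀ t ∈ N, Commute z t := fun t ht => (mem_centralizer_iff.mp hz.2 t ht).symm
      have c2 : ∀ t ∈ N, Commute z' t := fun t ht => (mem_centralizer_iff.mp hz'.2 t ht).symm
      have key : ⁅d * z, d' * z'⁆ = ⁅d, d'⁆ := by
        simp only [commutatorElement_def, mul_inv_rev]
        calc d * z * (d' * z') * (z⁻¹ * d⁻¹) * (z'⁻¹ * d'⁻¹)
            = d * (z * (d' * z')) * z⁻¹ * d⁻¹ * z'⁻¹ * d'⁻¹ := by group
          _ = d * d' * (z' * d⁻¹) * z'⁻¹ * d'⁻¹ := by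
              rw [(c1 _ (mul_mem (hDN hd') hz'.1)).eq]; group
          _ = _ := by rw [(c2 _ (inv_mem (hDN hd))).eq]; group
      show ⁅d * z, d' * z'⁆ ∈ _
      rw [key]
      exact commutator_mem_commutator hd hd'
    obtain ⟨n, hn⟩ := (isSolvable_def N).mp hs
    have hle : ∀ i, ⁅K, K⁆ ≤ (derivedSeries N i).map N.subtype := by
      intro i
      induction i with
      | zero =>
        rw [derivedSeries_zero, ← MonoidHom.range_eq_map, range_subtype]
        exact (commutator_le_self K).trans hKN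
      | succ i ih =>
        rw [derivedSeries_succ, map_commutator]
        exact hperf.trans (commutator_mono ih ih)
    have h1 := hle n
    rw [hn, Subgroup.map_bot, le_bot_iff] at h1
    rw [h1, bot_sup_eq] at e
    exact hZK.ne e
  obtain ⟨l, hlK, hlZ⟩ := SetLike.exists_of_lt hZK
  set π := QuotientGroup.mk' Z with hπ
  have h1 : orderOf (π l) ≠ 1 := fun h => hlZ ((QuotientGroup.eq_one_iff l).mp (orderOf_eq_one_iff.mp h))
  obtain ⟨p, hp, hpd⟩ := Nat.exists_prime_and_dvd h1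
  refine ⟨K, hKn, hZK, hKN, hmin, hKc, p, hp, ?_⟩
  let W : Subgroup G :=
    { carrier := {k | k ∈ K ∧ π k ^ p = 1}
      one_mem' := ⟨one_mem K, by simp⟩
      mul_mem' := fun {a b} ha hb => ⟨mul_mem ha.1 hb.1, by
        have hc : Commute (π a) (π b) := by
          rw [commute_iff_eq, ← commutatorElement_eq_one_iff_mul_comm, ← map_commutatorElement]
          exact (QuotientGroup.eq_one_iff _).mpr (hKc (commutator_mem_commutator ha.1 hb.1))
        rw [map_mul, hc.mul_pow, ha.2, hb.2, one_mul]⟩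
      inv_mem' := fun {a} ha => ⟨inv_mem ha.1, by rw [map_inv, inv_pow, ha.2, inv_one]⟩ }
  have hW : W = K := by
    have hWn : W.Normal := ⟨fun a ha g => ⟨hKn.conj_mem a ha.1 g, by
      rw [map_mul, map_mul, map_inv, conj_pow, ha.2, mul_one, mul_inv_cancel]⟩⟩
    refine (hmin W hWn (fun z hz => ⟨hZK.le hz, ?_⟩) fun w hw => hw.1).resolve_left fun e => ?_
    · rw [(QuotientGroup.eq_one_iff z).mpr hz |> fun h => (show π z = 1 from h), one_pow]
    · have hmem : l ^ (orderOf (π l) / p) ∈ W := ⟨pow_mem hlK _, by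
        rw [map_pow, ← pow_mul, Nat.div_mul_cancel hpd, pow_orderOf_eq_one]⟩
      rw [e] at hmem
      have h2 : π l ^ (orderOf (π l) / p) = 1 := by
        rw [← map_pow]; exact (QuotientGroup.eq_one_iff _).mpr hmem
      have h3 := Nat.le_of_dvd (Nat.div_pos (Nat.le_of_dvd (orderOf_pos _) hpd) hp.pos)
        (orderOf_dvd_of_pow_eq_one h2)
      exact absurd (Nat.div_lt_self (orderOf_pos (π l)) hp.one_lt) (not_lt.mpr h3)
  intro k hk
  have hk' : k ∈ W := hW.symm ▸ hk
  have h2 := hk'.2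
  rw [← map_pow] at h2
  exact ((QuotientGroup.eq_one_iff _).mp h2).2

/-- The structure of `N / Z(N)`. -/
theorem Hyp.structure_quotient [N.Normal] (h : Hyp N) :
    (∃ p : ℕ, p.Prime ∧ Cfsg.IsElementaryAbelian p (⊤ : Subgroup (↥N ⧸ center ↥N))) ∨
    (∃ (Q K : Subgroup (↥N ⧸ center ↥N)) (p : ℕ), p.Prime ∧ Cfsg.IsFrobeniusComplement Q ∧
      (Nat.card ↥Q).Prime ∧ K.Normal ∧
      (K : Set (↥N ⧸ center ↥N)) = Cfsg.frobeniusKernel Q ∧ Cfsg.IsElementaryAbelian p K) := by
  by_cases hNab : N ≤ centralizer (N : Set G)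
  · have htriv : ∀ a : N ⧸ center N, a = 1 := by
      intro a
      obtain ⟨a, rfl⟩ := QuotientGroup.mk_surjective a
      exact (QuotientGroup.eq_one_iff a).mpr (mem_centre_iff.mpr (hNab a.2))
    exact Or.inl ⟨2, Nat.prime_two, ⟨⟨fun a b => Subtype.ext
      (by rw [htriv (a : N ⧸ center N), htriv (b : N ⧸ center N)] : (a : N ⧸ center N) * b = b * a)⟩⟩,
      fun a _ => by rw [htriv a, one_pow]⟩
  haveI := h.isSolvable
  set Z := N ⊓ centralizer (N : Set G) with hZ
  haveI : Z.Normal := inferInstance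
  obtain ⟨K, hKn, hZK, hKN, hmin, hKK, p, hp, hKp⟩ := exists_minimal h.isSolvable hNab
  haveI := hKn
  haveI := Fact.mk hp
  have hZm : ∀ m ∈ N, Z ≤ C[m] := fun m hm z hz =>
    mem_centralizer_singleton_iff.mpr (mem_centralizer_iff.mp hz.2 m hm).symm
  have hnotC : ∀ k ∈ K, k ∉ Z → k ∉ centralizer (N : Set G) := fun k hk hkZ hc => hkZ ⟨hKN hk, hc⟩
  -- elements not centralising `K`
  have hout : ∀ m ∈ N, m ∉ centralizer (K : Set G) → C[m] ⊔ K = ⊤ ∧ C[m] ⊓ K = Z := by
    intro m hmN hm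
    have hmZ : m ∉ centralizer (N : Set G) := fun hz => hm (centralizer_le hKN hz)
    have hKm : ¬ K ≤ C[m] := fun hle => hm (mem_centralizer_iff.mpr fun k hk =>
      mem_centralizer_singleton_iff.mp (hle hk))
    have htop : C[m] ⊔ K = ⊤ := (h m hmN hmZ).2 _ (lt_of_le_of_ne le_sup_left fun e =>
      hKm (e ▸ le_sup_right))
    refine ⟨htop, ?_⟩
    have hKc : ∀ a ∈ K, ∀ b ∈ K, ⁅a, b⁆ ∈ Z := fun a ha b hb =>
      hKK (commutator_mem_commutator ha hb)
    have hn : (C[m] ⊓ K).Normal := by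
      rw [← normalizer_eq_top_iff, eq_top_iff, ← htop]
      refine sup_le ?_ fun u hu => mem_normalizer_iff_map_conj_eq.mpr ?_
      · exact le_trans (le_inf Subgroup.le_normalizer le_normalizer_of_normal)
          inf_normalizer_le_normalizer_inf
      · refine (eq_of_le_of_card_ge ?_ (card_map_of_injective (MulAut.conj u).injective).ge)
        rintro _ ⟨b, ⟨hb1, hb2⟩, rfl⟩
        show u * b * u⁻¹ ∈ C[m] ⊓ K
        have hc : ⁅u, b⁆ ∈ Z := hKc u hu b hb2
        rw [show u * b * u⁻¹ = ⁅u, b⁆ * b by rw [commutatorElement_def]; group]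
        exact ⟨(C[m]).mul_mem (hZm m hmN hc) hb1, K.mul_mem (hZK.le hc) hb2⟩
    rcases hmin _ hn (le_inf (hZm m hmN) hZK.le) inf_le_right with e | e
    · exact e
    · exact absurd (e ▸ inf_le_left) hKm
  -- `K` is abelian
  have hKab : K ≤ centralizer (K : Set G) := by
    intro k hk
    by_contra hkc
    have hmem : k ∈ C[k] ⊓ K := ⟨mem_centralizer_singleton_iff.mpr rfl, hk⟩
    rw [(hout k (hKN hk) hkc).2] at hmem
    exact hkc (centralizer_le hKN hmem.2)
  obtain ⟨m₀, hm₀N, hm₀⟩ : ∃ m₀ ∈ N, m₀ ∉ centralizer (K : Set G) := by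
    by_contra hcon
    push Not at hcon
    refine hZK.not_ge fun k hk => ⟨hKN hk, mem_centralizer_iff.mpr fun n hn => ?_⟩
    exact (mem_centralizer_iff.mp (hcon n hn) k hk).symm
  -- `[N, G] ≤ K`
  have hNG : ∀ n ∈ N, ∀ g : G, ⁅n, g⁆ ∈ K := by
    have h1 : ∀ m ∈ N, m ∉ centralizer (K : Set G) → ∀ g : G, ⁅m, g⁆ ∈ K := by
      intro m hmN hm g
      have hg : g ∈ ((C[m] ⊔ K : Subgroup G) : Set G) := (hout m hmN hm).1 ▸ mem_top g
      rw [mul_normal] at hg
      obtain ⟨c, hc, k, hk, rfl⟩ := hg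
      have hcm : c * m = m * c := mem_centralizer_singleton_iff.mp hc
      have : ⁅m, c * k⁆ = c * (m * k * m⁻¹ * k⁻¹) * c⁻¹ := by
        rw [commutatorElement_def, ← mul_assoc m c k, ← hcm]
        group
      rw [this]
      exact hKn.conj_mem _ (mul_mem (hKn.conj_mem k hk m) (inv_mem hk)) c
    intro n hn g
    by_cases hnK : n ∈ centralizer (K : Set G)
    · have h2 : n * m₀ ∉ centralizer (K : Set G) := fun h' => hm₀ (by
        simpa using mul_mem (inv_mem hnK) h')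
      have h4 : ⁅n * m₀, g⁆ = n * ⁅m₀, g⁆ * n⁻¹ * ⁅n, g⁆ := by
        simp only [commutatorElement_def]; group
      have h5 : ⁅n, g⁆ = (n * ⁅m₀, g⁆ * n⁻¹)⁻¹ * ⁅n * m₀, g⁆ := by rw [h4]; group
      rw [h5]
      exact mul_mem (inv_mem (hKn.conj_mem _ (h1 _ hm₀N hm₀ g) n))
        (h1 _ (mul_mem hn hm₀N) h2 g)
    · exact h1 n hn hnK g
  have hnorm : ∀ X : Subgroup G, K ≤ X → X ≤ N → X.Normal := fun X hKX hXN => ⟨fun x hx g => by
    rw [show g * x * g⁻¹ = ⁅x, g⁆⁻¹ * x by rw [commutatorElement_def]; group]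
    exact mul_mem (inv_mem (hKX (hNG x (hXN hx) g))) hx⟩
  have hX : ∀ x ∈ N, x ∉ centralizer (N : Set G) → K ≤ C[x] →
      ∀ Y, C[x] ⊓ N ≤ Y → Y ≤ N → Y = C[x] ⊓ N ∨ Y = N := by
    intro x hxN hx hKx Y hXY hYN
    haveI := hnorm Y ((le_inf hKx hKN).trans hXY) hYN
    rcases (h x hxN hx).le_iff.mp (le_sup_left : C[x] ≤ C[x] ⊔ Y) with e | e
    · refine Or.inr (le_antisymm hYN fun g hg => ?_)
      have hg' : g ∈ ((C[x] ⊔ Y : Subgroup G) : Set G) := e.symm ▸ mem_top g
      rw [mul_normal] at hg'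
      obtain ⟨c, hc, y, hy, rfl⟩ := hg'
      exact mul_mem (hXY ⟨hc, by simpa using mul_mem hg (inv_mem (hYN hy))⟩) hy
    · exact Or.inl (le_antisymm (le_inf (e ▸ le_sup_right) hYN) hXY)
  -- prime indices
  have hidx : ∀ x ∈ N, x ∉ centralizer (N : Set G) → K ≤ C[x] →
      ∃ r : ℕ, r.Prime ∧ (∀ n ∈ N, n ^ r ∈ C[x]) ∧
        ∀ n ∈ N, ∀ s : ℕ, s.Prime → s ≠ r → (∃ i, orderOf n ∣ s ^ i) → n ∈ C[x] := by
    intro x hxN hx hKx
    set X := (C[x] ⊓ N).subgroupOf N with hXdef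
    haveI := hnorm _ (le_inf hKx hKN) inf_le_right
    haveI : X.Normal := Normal.subgroupOf inferInstance N
    have hco : IsCoatom X := by
      refine ⟨fun e => top_ne hx ((subgroupOf_eq_top.mp e).trans inf_le_left), fun Y hlt => ?_⟩
      have h1 : C[x] ⊓ N ≤ Y.map N.subtype := fun g hg =>
        ⟨⟨g, hg.2⟩, hlt.le (mem_subgroupOf.mpr hg), rfl⟩
      rcases hX x hxN hx hKx _ h1 (map_subtype_le Y) with e | e
      · refine absurd (fun y hy => ?_) hlt.not_ge
        exact mem_subgroupOf.mpr (e ▸ mem_map_of_mem N.subtype hy)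
      · refine eq_top_iff.mpr fun y _ => ?_
        have hy0 : (y : G) ∈ Y.map N.subtype := by rw [e]; exact y.2
        obtain ⟨y', hy', e'⟩ := hy0
        exact Subtype.ext e' ▸ hy'
    have hcomm : commutator N ≤ X := by
      rw [_root_.commutator_def, commutator_le]
      intro a _ b _
      exact mem_subgroupOf.mpr (le_inf hKx hKN (hNG a a.2 b))
    have hr := CentCoatom.card_quotient_prime hco hcomm
    refine ⟨_, hr, fun n hn => ?_, fun n hn s hs hsr ⟨i, hi⟩ => ?_⟩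
    · have h1 : QuotientGroup.mk' X (⟨n, hn⟩ ^ Nat.card (N ⧸ X)) = 1 := by
        rw [map_pow]; exact pow_card_eq_one'
      exact (mem_subgroupOf.mp ((QuotientGroup.eq_one_iff _).mp h1)).1
    · refine (mem_subgroupOf.mp ((QuotientGroup.eq_one_iff (⟨n, hn⟩ : N)).mp (orderOf_eq_one_iff.mp
        (Nat.eq_one_of_dvd_coprimes (((Nat.coprime_primes hs hr).mpr hsr).pow i 1)
          ((orderOf_map_dvd (QuotientGroup.mk' X) ⟨n, hn⟩).trans (by rwa [Subgroup.orderOf_mk]))
          (by rw [pow_one]; exact orderOf_dvd_natCard _))))).1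
  obtain ⟨k₀, hk₀K, hk₀Z, jk, hjk⟩ : ∃ k₀ ∈ K, k₀ ∉ Z ∧ ∃ j, orderOf k₀ ∣ p ^ j := by
    by_contra hcon
    push Not at hcon
    refine hZK.not_ge (le_of_primePow_mem fun e he r hr ⟨i, hi⟩ => ?_)
    by_cases hrp : r = p
    · subst hrp
      by_contra heZ
      exact hcon e he heZ i hi
    have hcop : p.Coprime (orderOf e) :=
      ((((Nat.coprime_primes hp hr).mpr (Ne.symm hrp))).pow_right i).coprime_dvd_right hi
    obtain ⟨l, hl⟩ := exists_pow_eq_self_of_coprime hcop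
    rw [← hl]
    exact pow_mem (show e ^ p ∈ Z from ⟨pow_mem (hKN he) p, hKp e he⟩) l
  set N₀ := N ⊓ centralizer (K : Set G) with hN₀
  have hKN₀ : K ≤ N₀ := le_inf hKN hKab
  have hKC : ∀ n ∈ N₀, K ≤ C[n] := fun n hn k hk =>
    mem_centralizer_singleton_iff.mpr (mem_centralizer_iff.mp hn.2 k hk)
  have hCK : ∀ k ∈ K, k ∉ Z → C[k] ⊓ N = N₀ := by
    intro k hk hkZ
    have hKk : K ≤ C[k] := hKC k (hKN₀ hk)
    haveI := hnorm _ (le_inf hKk hKN) inf_le_right
    refine le_antisymm (le_inf inf_le_right ?_) fun g hg =>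
      ⟨mem_centralizer_singleton_iff.mpr (mem_centralizer_iff.mp hg.2 k hk).symm, hg.1⟩
    rcases hmin (K ⊓ centralizer ((C[k] ⊓ N : Subgroup G) : Set G)) inferInstance
      (le_inf hZK.le (inf_le_right.trans (centralizer_le inf_le_right))) inf_le_left with e | e
    · exfalso
      refine hkZ ?_
      rw [hZ, ← e]
      exact ⟨hk, mem_centralizer_iff.mpr fun g hg => mem_centralizer_singleton_iff.mp hg.1⟩
    · exact le_centralizer_iff.mp (e.ge.trans inf_le_right)
  have hk₀N : k₀ ∉ centralizer (N : Set G) := hnotC k₀ hk₀K hk₀Z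
  obtain ⟨q, hq, hqpow, hqelt'⟩ := hidx k₀ (hKN hk₀K) hk₀N (hKC k₀ (hKN₀ hk₀K))
  have hmemN₀ : ∀ n ∈ N, n ∈ C[k₀] → n ∈ N₀ := fun n hn hc => hCK k₀ hk₀K hk₀Z ▸ ⟨hc, hn⟩
  have hqelt : ∀ L : Subgroup G, L ≤ N → ¬ L ≤ N₀ → ∃ y ∈ L, y ∉ N₀ ∧ ∃ i, orderOf y ∣ q ^ i := by
    intro L hLN hL
    by_contra hcon
    push Not at hcon
    refine hL (le_of_primePow_mem fun e he r hr ⟨i, hi⟩ => ?_)
    by_contra heN
    by_cases hrq : r = q
    · subst hrq; exact hcon e he heN i hi
    exact heN (hmemN₀ e (hLN he) (hqelt' e (hLN he) r hr hrq ⟨i, hi⟩))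
  have hgen : ∀ y ∈ N, y ∉ N₀ → ∀ n ∈ N, ∃ a ∈ N₀, ∃ i : ℤ, n = a * y ^ i := by
    intro y hyN hy n hn
    haveI := hnorm N₀ hKN₀ inf_le_left
    rcases hX k₀ (hKN hk₀K) hk₀N (hKC k₀ (hKN₀ hk₀K)) (N₀ ⊔ zpowers y)
      ((hCK k₀ hk₀K hk₀Z).le.trans le_sup_left) (sup_le inf_le_left (zpowers_le.mpr hyN)) with e | e
    · rw [hCK k₀ hk₀K hk₀Z] at e
      exact absurd (e ▸ mem_sup_right (mem_zpowers y)) hy
    · have hn' : n ∈ ((N₀ ⊔ zpowers y : Subgroup G) : Set G) := e.symm ▸ hn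
      rw [normal_mul] at hn'
      obtain ⟨a, ha, b, ⟨i, rfl⟩, rfl⟩ := hn'
      exact ⟨a, ha, i, rfl⟩
  obtain ⟨y, hyN, hy, iy, hiy⟩ := hqelt N le_rfl fun hle => hm₀ (hle hm₀N).2
  have hyK : y ∉ centralizer (K : Set G) := fun hc => hy ⟨hyN, hc⟩
  set π := QuotientGroup.mk' (center N) with hπ
  have hπ1 : ∀ a : N, π a = 1 ↔ (a : G) ∈ centralizer (N : Set G) := fun a =>
    (QuotientGroup.eq_one_iff a).trans mem_centre_iff
  have hπc : ∀ a b : N, π a * π b = π b * π a ↔ ⁅(a : G), (b : G)⁆ ∈ centralizer (N : Set G) :=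
    fun a b => by
      rw [← commutatorElement_eq_one_iff_mul_comm, ← map_commutatorElement, hπ1]
      rfl
  by_cases hpq : p = q
  · -- the `p`-group case
    left
    subst hpq
    refine ⟨p, hp, ?_⟩
    -- `K` is central modulo `Z`
    have hyk : ∀ k ∈ K, ⁅y, k⁆ ∈ Z := by
      let L : Subgroup G :=
        { carrier := {k | k ∈ K ∧ ⁅y, k⁆ ∈ Z}
          one_mem' := ⟨one_mem K, by rw [commutatorElement_one_right]; exact one_mem Z⟩
          mul_mem' := fun {a b} ha hb => ⟨mul_mem ha.1 hb.1, by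
            rw [show ⁅y, a * b⁆ = ⁅y, a⁆ * (a * ⁅y, b⁆ * a⁻¹) by
              simp only [commutatorElement_def]; group]
            exact Z.mul_mem ha.2 ((inferInstance : Z.Normal).conj_mem _ hb.2 a)⟩
          inv_mem' := fun {a} ha => ⟨inv_mem ha.1, by
            rw [show ⁅y, a⁻¹⁆ = a⁻¹ * ⁅y, a⁆⁻¹ * a⁻¹⁻¹ by simp only [commutatorElement_def]; group]
            exact (inferInstance : Z.Normal).conj_mem _ (inv_mem ha.2) _⟩ }
      have hLn : L.Normal := ⟨fun k hk g => ⟨hKn.conj_mem k hk.1 g, by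
        have hk' : ⁅g⁻¹ * y * g, k⁆ = ⁅y, k⁆ := by
          have hc : y⁻¹ * (g⁻¹ * y * g) ∈ K := by
            rw [show y⁻¹ * (g⁻¹ * y * g) = ⁅y⁻¹, g⁻¹⁆ by simp only [commutatorElement_def]; group]
            exact hNG _ (inv_mem hyN) _
          have e := mem_centralizer_iff.mp (hKab hk.1) _ hc
          calc ⁅g⁻¹ * y * g, k⁆
              = y * (y⁻¹ * (g⁻¹ * y * g) * k) * (g⁻¹ * y * g)⁻¹ * k⁻¹ := by
                simp only [commutatorElement_def]; group
            _ = y * (k * (y⁻¹ * (g⁻¹ * y * g))) * (g⁻¹ * y * g)⁻¹ * k⁻¹ := by rw [e]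
            _ = ⁅y, k⁆ := by simp only [commutatorElement_def]; group
        rw [show ⁅y, g * k * g⁻¹⁆ = g * ⁅g⁻¹ * y * g, k⁆ * g⁻¹ by
          simp only [commutatorElement_def]; group, hk']
        exact (inferInstance : Z.Normal).conj_mem _ hk.2 g⟩⟩
      rcases hmin L hLn (fun z hz => ⟨hZK.le hz, by
          rw [commutatorElement_eq_one_iff_mul_comm.mpr (mem_centralizer_iff.mp hz.2 y hyN)]
          exact one_mem Z⟩) (fun k hk => hk.1) with e | e
      swap
      · exact fun k hk => (show k ∈ L from e.symm ▸ hk).2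
      exfalso
      set Kb := (K.subgroupOf N).map π with hKb
      haveI : Kb.Normal := Normal.map (Normal.subgroupOf hKn N) π (QuotientGroup.mk'_surjective _)
      have hKbp : IsPGroup p Kb := by
        rintro ⟨_, k, hk, rfl⟩
        refine ⟨1, Subtype.ext ?_⟩
        rw [pow_one]
        show π k ^ p = 1
        rw [← map_pow, hπ1]
        exact hKp k hk
      set P := zpowers (π ⟨y, hyN⟩) with hP
      have hPp : IsPGroup p P := by
        obtain ⟨i, -, hi⟩ := (Nat.dvd_prime_pow hp).mp ((orderOf_map_dvd π (⟨y, hyN⟩ : N)).trans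
          (by rwa [Subgroup.orderOf_mk]))
        exact IsPGroup.of_card (n := i) (by rw [hP, Nat.card_zpowers, hi])
      letI : MulAction P Kb := MulAction.compHom Kb
        ((MulAut.conjNormal (H := Kb)).comp P.subtype)
      have hKb1 : Kb ≠ ⊥ := fun e' => by
        have : π ⟨k₀, hKN hk₀K⟩ ∈ Kb := mem_map_of_mem π (mem_subgroupOf.mpr hk₀K)
        rw [e', mem_bot, hπ1] at this
        exact hk₀N this
      obtain ⟨n, hn⟩ := IsPGroup.iff_card.mp hKbp
      have hd : p ∣ Nat.card Kb := by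
        rcases n with _ | n
        · exact absurd (card_eq_one.mp (by rw [hn, pow_zero])) hKb1
        · exact hn ▸ dvd_pow_self p (Nat.succ_ne_zero n)
      obtain ⟨⟨_, k, hk, rfl⟩, hfix, hne⟩ := hPp.exists_fixed_point_of_prime_dvd_card_of_fixed_point
        (α := Kb) hd (a := 1) (fun g => map_one (MulAut.conjNormal (H := Kb) (g : N ⧸ center N)))
      refine hne (Subtype.ext ?_)
      have h1 : π ⟨y, hyN⟩ * π k * (π ⟨y, hyN⟩)⁻¹ = π k :=
        congrArg Subtype.val (hfix ⟨π ⟨y, hyN⟩, mem_zpowers _⟩)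
      rw [mul_inv_eq_iff_eq_mul, hπc] at h1
      have h2 : (k : G) ∈ L := ⟨hk, hKN (hNG y hyN k), h1⟩
      rw [e] at h2
      exact ((hπ1 k).mpr h2.2).symm
    -- `N₀` and `y` commute modulo `Z`
    have hyn : ∀ n ∈ N₀, ⁅y, n⁆ ∈ Z := by
      intro n hn
      have hn' : n ∈ ((C[y] ⊔ K : Subgroup G) : Set G) := (hout y hyN hyK).1 ▸ mem_top n
      rw [mul_normal] at hn'
      obtain ⟨c, hc, k, hk, rfl⟩ := hn'
      have hcy : c * y = y * c := mem_centralizer_singleton_iff.mp hc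
      have : ⁅y, c * k⁆ = c * ⁅y, k⁆ * c⁻¹ := by
        rw [commutatorElement_def, ← mul_assoc y c k, ← hcy]
        simp only [commutatorElement_def]; group
      rw [this]
      exact (inferInstance : Z.Normal).conj_mem _ (hyk k hk) c
    have hN₀' : ∀ a ∈ N₀, ∀ b ∈ N₀, ⁅a, b⁆ ∈ Z := by
      intro a ha b hb
      have hcK : ⁅a, b⁆ ∈ K := hNG a ha.1 b
      rw [← (hout y hyN hyK).2]
      refine ⟨mem_centralizer_singleton_iff.mpr ?_, hcK⟩
      have ca : ∀ t ∈ N, Commute ⁅y, a⁆ t := fun t ht =>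
        (mem_centralizer_iff.mp (hyn a ha).2 t ht).symm
      have cb : ∀ t ∈ N, Commute ⁅y, b⁆ t := fun t ht =>
        (mem_centralizer_iff.mp (hyn b hb).2 t ht).symm
      have h1 : y * ⁅a, b⁆ * y⁻¹ = ⁅a, b⁆ := by
        rw [show y * ⁅a, b⁆ * y⁻¹ = ⁅⁅y, a⁆ * a, ⁅y, b⁆ * b⁆ by
          simp only [commutatorElement_def]; group]
        have hbN : ⁅y, b⁆ * b ∈ N := mul_mem (hyn b hb).1 hb.1
        calc ⁅⁅y, a⁆ * a, ⁅y, b⁆ * b⁆
            = ⁅y, a⁆ * (a * (⁅y, b⁆ * b) * a⁻¹) * ⁅y, a⁆⁻¹ * (⁅y, b⁆ * b)⁻¹ := by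
              simp only [commutatorElement_def]; group
          _ = a * (⁅y, b⁆ * b) * a⁻¹ * (⁅y, b⁆ * b)⁻¹ := by
              rw [(ca _ (mul_mem (mul_mem ha.1 hbN) (inv_mem ha.1))).eq, mul_inv_cancel_right]
          _ = a * ⁅y, b⁆ * b * a⁻¹ * b⁻¹ * ⁅y, b⁆⁻¹ := by group
          _ = ⁅y, b⁆ * (a * b * a⁻¹ * b⁻¹) * ⁅y, b⁆⁻¹ := by rw [← (cb a ha.1).eq]; group
          _ = _ := by
              rw [(cb _ (hKN (by simpa only [commutatorElement_def] using hcK))).eq,
                mul_inv_cancel_right]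
              simp only [commutatorElement_def]
      exact (mul_inv_eq_iff_eq_mul.mp h1).symm
    have hcomm : ∀ a b : N, π a * π b = π b * π a := by
      have hy0 : ∀ a : N, (a : G) ∈ N₀ → π ⟨y, hyN⟩ * π a = π a * π ⟨y, hyN⟩ := fun a ha =>
        (hπc _ _).mpr (hyn a ha).2
      have h0 : ∀ a b : N, (a : G) ∈ N₀ → π a * π b = π b * π a := by
        intro a b ha
        obtain ⟨b0, hb0, i, hb⟩ := hgen y hyN hy b b.2
        have e : b = ⟨b0, hb0.1⟩ * (⟨y, hyN⟩ : N) ^ i := Subtype.ext (by simpa using hb)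
        rw [e, map_mul, map_zpow]
        exact (Commute.mul_right ((hπc a ⟨b0, hb0.1⟩).mpr (hN₀' a ha b0 hb0).2)
          ((show Commute (π a) (π ⟨y, hyN⟩) from (hy0 a ha).symm).zpow_right i)).eq
      intro a b
      obtain ⟨a0, ha0, i, ha⟩ := hgen y hyN hy a a.2
      have e : a = ⟨a0, ha0.1⟩ * (⟨y, hyN⟩ : N) ^ i := Subtype.ext (by simpa using ha)
      obtain ⟨b0, hb0, j, hb⟩ := hgen y hyN hy b b.2
      have e' : b = ⟨b0, hb0.1⟩ * (⟨y, hyN⟩ : N) ^ j := Subtype.ext (by simpa using hb)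
      rw [e, map_mul, map_zpow]
      refine (Commute.mul_left (h0 _ b ha0) ?_).eq
      rw [e', map_mul, map_zpow]
      exact Commute.mul_right ((show Commute (π ⟨y, hyN⟩) (π ⟨b0, hb0.1⟩) from
        hy0 _ hb0).zpow_left i) (((Commute.refl (π ⟨y, hyN⟩)).zpow_zpow i j))
    have hcen : ∀ a ∈ N, ∀ b ∈ N, ⁅a, b⁆ ∈ centralizer (N : Set G) := fun a ha b hb =>
      (hπc ⟨a, ha⟩ ⟨b, hb⟩).mp (hcomm _ _)
    have hc2 : ∀ a ∈ N, ∀ b ∈ N, ∀ t ∈ N, Commute t ⁅a, b⁆ := fun a ha b hb t ht =>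
      mem_centralizer_iff.mp (hcen a ha b hb) t ht
    have hpow0 : ∀ a ∈ N₀, ∀ b ∈ N, ⁅a, b⁆ ^ p = 1 := by
      intro a ha b hb
      rw [← commutator_pow_right (hc2 a ha.1 b hb b hb), commutatorElement_eq_one_iff_mul_comm]
      by_cases haC : a ∈ centralizer (N : Set G)
      · exact (mem_centralizer_iff.mp haC _ (pow_mem hb p)).symm
      obtain ⟨r, hr, hrpow, hrelt⟩ := hidx a ha.1 haC (hKC a ha)
      suffices e : r = p by
        subst e
        exact (mem_centralizer_singleton_iff.mp (hrpow b hb)).symm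
      by_contra hrp
      refine top_ne haC (le_of_primePow_mem fun w hw s hs hws => ?_)
      by_cases hsr : s = r
      swap
      · exact hrelt w hw s hs hsr hws
      subst hsr
      obtain ⟨i, hi⟩ := hws
      by_cases hwC : w ∈ centralizer (N : Set G)
      · exact mem_centralizer_singleton_iff.mpr (mem_centralizer_iff.mp hwC a ha.1).symm
      have hw0 := hmemN₀ w hw (hqelt' w hw s hs hrp ⟨i, hi⟩)
      have e := h.eq_of_commute_coprime
        (show Commute w k₀ from (mem_centralizer_iff.mp hw0.2 k₀ hk₀K).symm)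
        (CentCoatom.coprime_orders hs hp hrp hi hjk) hw (hKN hk₀K) hwC hk₀N
      have haw : a ∈ C[w] ⊓ N := by rw [e, hCK k₀ hk₀K hk₀Z]; exact ha
      exact mem_centralizer_singleton_iff.mpr (mem_centralizer_singleton_iff.mp haw.1).symm
    have hpow : ∀ a ∈ N, ∀ b ∈ N, ⁅a, b⁆ ^ p = 1 := by
      intro a ha b hb
      by_cases hb0 : b ∈ N₀
      · rw [← inv_inj, ← inv_pow, commutatorElement_inv, hpow0 b hb0 a ha, inv_one]
      obtain ⟨a0, ha0, i, rfl⟩ := hgen b hb hb0 a ha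
      rw [show ⁅a0 * b ^ i, b⁆ = ⁅a0, b⁆ by simp only [commutatorElement_def]; group]
      exact hpow0 a0 ha0 b hb
    refine ⟨⟨⟨fun a b => Subtype.ext ?_⟩⟩, fun a _ => ?_⟩
    · obtain ⟨a', ha'⟩ := QuotientGroup.mk'_surjective (center N) (a : N ⧸ center N)
      obtain ⟨b', hb'⟩ := QuotientGroup.mk'_surjective (center N) (b : N ⧸ center N)
      show (a : N ⧸ center N) * b = b * a
      rw [← ha', ← hb']
      exact hcomm a' b'
    · obtain ⟨a', rfl⟩ := QuotientGroup.mk'_surjective (center N) a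
      rw [← map_pow, hπ1]
      refine mem_centralizer_iff.mpr fun b hb => ?_
      have h1 := commutator_pow_right (hc2 b hb a' a'.2 a' a'.2) p
      rw [hpow b hb a' a'.2, commutatorElement_eq_one_iff_mul_comm] at h1
      simpa using h1
  · -- the Frobenius case
    right
    have hNn : ∀ n ∈ N₀, n ∉ centralizer (N : Set G) → C[n] ⊓ N = N₀ := by
      have hs : ∀ n ∈ N₀, n ∉ centralizer (N : Set G) → ∀ s : ℕ, s.Prime →
          (∃ i, orderOf n ∣ s ^ i) → C[n] ⊓ N = N₀ := by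
        intro n hn hnC s hs ⟨i, hi⟩
        by_cases hsp : s = p
        · subst hsp
          have hle : C[n] ⊓ N ≤ N₀ := by
            by_contra hnot
            obtain ⟨y', hy', hy'N, i', hi'⟩ := hqelt _ inf_le_right hnot
            have hy'C : y' ∉ centralizer (N : Set G) := fun hz =>
              hy'N ⟨hy'.2, centralizer_le hKN hz⟩
            have e := h.eq_of_commute_coprime
              (show Commute n y' from (mem_centralizer_singleton_iff.mp hy'.1).symm)
              (CentCoatom.coprime_orders hs hq hpq hi hi') hn.1 hy'.2 hnC hy'C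
            refine hy'N ⟨hy'.2, mem_centralizer_iff.mpr fun k hk => ?_⟩
            exact mem_centralizer_singleton_iff.mp (e ▸ hKC n hn hk)
          exact ((hX n hn.1 hnC (hKC n hn) N₀ hle inf_le_left).resolve_right
            fun e => hy (e.symm ▸ hyN)).symm
        · rw [h.eq_of_commute_coprime
            (show Commute n k₀ from (mem_centralizer_iff.mp hn.2 k₀ hk₀K).symm)
            (CentCoatom.coprime_orders hs hp hsp hi hjk) hn.1 (hKN hk₀K) hnC hk₀N,
            hCK k₀ hk₀K hk₀Z]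
      intro n hn hnC
      obtain ⟨s, hsp, z, hzn, hz, hzs⟩ := exists_primePow_part hnC
      rw [h.eq_of_le hn.1 hnC hz (centralizer_le_of_mem_zpowers hzn)]
      exact hs z (zpowers_le.mpr hn hzn) hz s hsp hzs
    have hcy : ∀ n ∈ N₀, n * y = y * n → n ∈ centralizer (N : Set G) := fun n hn hny => by
      by_contra hnC
      refine hy (hNn n hn hnC ▸ ⟨mem_centralizer_singleton_iff.mpr ?_, hyN⟩)
      exact hny.symm
    have hNK : N₀ = K := by
      refine le_antisymm (fun n hn => ?_) hKN₀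
      have hn' : n ∈ ((C[y] ⊔ K : Subgroup G) : Set G) := (hout y hyN hyK).1 ▸ mem_top n
      rw [mul_normal] at hn'
      obtain ⟨c, hc, k, hk, rfl⟩ := hn'
      have hcN : c ∈ N₀ := by simpa using mul_mem hn (inv_mem (hKN₀ hk))
      exact mul_mem (hZK.le ⟨hcN.1, hcy c hcN (mem_centralizer_singleton_iff.mp hc)⟩) hk
    -- fixed-point-freeness
    have hfpf : ∀ w ∈ N, w ∉ N₀ → orderOf w ∣ q ^ iy → ∀ k ∈ K,
        ⁅w, k⁆ ∈ centralizer (N : Set G) → k ∈ centralizer (N : Set G) := by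
      intro w hwN hw hwq k hk hc
      set c := ⁅w, k⁆ with hcdef
      have hcw : Commute c w := (mem_centralizer_iff.mp hc w hwN).symm
      have hck : Commute c k := (mem_centralizer_iff.mp hc k (hKN hk)).symm
      have hwk : w * k * w⁻¹ = c * k := by rw [hcdef, commutatorElement_def]; group
      have hkp : Commute w (k ^ p) := mem_centralizer_iff.mp (hKp k hk) w hwN
      have h2 : c ^ p = 1 := by
        have h3 : (w * k * w⁻¹) ^ p = (c * k) ^ p := by rw [hwk]
        rw [conj_pow, hck.mul_pow, hkp.eq, mul_inv_cancel_right, right_eq_mul] at h3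
        exact h3
      have hit : ∀ t : ℕ, w ^ t * k * (w ^ t)⁻¹ = c ^ t * k := by
        intro t
        induction t with
        | zero => simp
        | succ t ih =>
          calc w ^ (t + 1) * k * (w ^ (t + 1))⁻¹ = w * (w ^ t * k * (w ^ t)⁻¹) * w⁻¹ := by
                rw [pow_succ']; group
            _ = w * c ^ t * k * w⁻¹ := by rw [ih]; group
            _ = c ^ t * (w * k * w⁻¹) := by rw [← (hcw.pow_left t).eq]; group
            _ = c ^ t * (c * k) := by rw [hwk]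
            _ = c ^ (t + 1) * k := by rw [pow_succ, mul_assoc]
      have h1 := hit (q ^ iy)
      rw [orderOf_dvd_iff_pow_eq_one.mp hwq, one_mul, inv_one, mul_one, right_eq_mul] at h1
      have hc1 : c = 1 := orderOf_eq_one_iff.mp (Nat.eq_one_of_dvd_coprimes
        (((Nat.coprime_primes hp hq).mpr hpq).pow 1 iy)
        (by rw [pow_one]; exact orderOf_dvd_of_pow_eq_one h2) (orderOf_dvd_of_pow_eq_one h1))
      rw [hcdef, commutatorElement_eq_one_iff_mul_comm] at hc1
      have hmem : k ∈ C[w] ⊓ K := ⟨mem_centralizer_singleton_iff.mpr hc1.symm, hk⟩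
      rw [(hout w hwN fun hc => hw ⟨hwN, hc⟩).2] at hmem
      exact hmem.2
    set Kb := (K.subgroupOf N).map π with hKb
    haveI hKbn : Kb.Normal := Normal.map (Normal.subgroupOf hKn N) π (QuotientGroup.mk'_surjective _)
    set yb := π ⟨y, hyN⟩ with hyb
    set Q := zpowers yb with hQ
    have hmemKb : ∀ n : N, π n ∈ Kb → (n : G) ∈ K := by
      rintro n ⟨k, hk, e⟩
      have h1 : (k : G)⁻¹ * n ∈ centralizer (N : Set G) := (hπ1 (k⁻¹ * n)).mp (by
        rw [map_mul, map_inv, e, inv_mul_cancel])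
      have h2 : (k : G)⁻¹ * n ∈ K := hZK.le ⟨N.mul_mem (N.inv_mem k.2) n.2, h1⟩
      simpa using mul_mem (show (k : G) ∈ K from hk) h2
    have hQdesc : ∀ t ∈ Q, ∃ i : ℤ, t = π ⟨y ^ i, zpow_mem hyN i⟩ ∧
        (t ≠ 1 → y ^ i ∉ N₀ ∧ orderOf (y ^ i) ∣ q ^ iy) := by
      rintro _ ⟨i, rfl⟩
      have e : (⟨y ^ i, zpow_mem hyN i⟩ : N) = ⟨y, hyN⟩ ^ i := Subtype.ext (by simp)
      refine ⟨i, by rw [e, map_zpow], fun hne => ⟨fun hi => hne ?_, ?_⟩⟩
      · show π ⟨y, hyN⟩ ^ i = 1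
        rw [← map_zpow, ← e, hπ1]
        exact hcy _ hi (Commute.zpow_self y i).eq
      · exact (orderOf_dvd_of_mem_zpowers (zpow_mem (mem_zpowers y) i)).trans hiy
    have hdis : ∀ t ∈ Q, t ∈ Kb → t = 1 := by
      intro t ht htK
      obtain ⟨i, rfl, hi⟩ := hQdesc t ht
      by_contra hne
      exact (hi hne).1 (hKN₀ (hmemKb _ htK))
    have hfree : ∀ t ∈ Q, t ≠ 1 → ∀ k ∈ Kb, k * t = t * k → k = 1 := by
      rintro t ht hne _ ⟨k, hk, rfl⟩ hkt
      obtain ⟨i, rfl, hi⟩ := hQdesc t ht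
      rw [hπ1]
      exact hfpf _ (zpow_mem hyN i) (hi hne).1 (hi hne).2 k hk ((hπc _ k).mp hkt.symm)
    have hyb1 : yb ≠ 1 := fun e => hy (by
      rw [hNK]; exact hZK.le ⟨hyN, (hπ1 _).mp e⟩)
    have hQcard : Nat.card Q = q := by
      haveI := Fact.mk hq
      rw [hQ, Nat.card_zpowers]
      refine orderOf_eq_prime ?_ hyb1
      rw [hyb, ← map_pow, hπ1]
      exact hcy _ (hmemN₀ _ (pow_mem hyN q) (hqpow y hyN)) (Commute.pow_self y q).eq
    have hdec : ∀ g : N ⧸ center N, ∃ k ∈ Kb, ∃ t ∈ Q, g = k * t := by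
      intro g
      obtain ⟨n, rfl⟩ := QuotientGroup.mk'_surjective (center N) g
      obtain ⟨a, ha, i, hn⟩ := hgen y hyN hy n n.2
      refine ⟨π ⟨a, ha.1⟩, mem_map_of_mem π (mem_subgroupOf.mpr (hNK.le ha)), yb ^ i,
        zpow_mem (mem_zpowers yb) i, ?_⟩
      rw [hyb, ← map_zpow, ← map_mul]
      exact congrArg π (Subtype.ext (by simpa using hn))
    have hk₀b : π ⟨k₀, hKN hk₀K⟩ ∈ Kb := mem_map_of_mem π (mem_subgroupOf.mpr hk₀K)
    have hQtop : Q ≠ ⊤ := fun e => hk₀N ((hπ1 _).mp (hdis _ (e ▸ mem_top _) hk₀b))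
    refine ⟨Q, Kb, p, hp, ⟨?_, hQtop, ?_⟩, hQcard ▸ hq, hKbn, ?_, ?_, ?_⟩
    · rw [hQ, ne_eq, zpowers_eq_bot]; exact hyb1
    · intro g hg
      rw [eq_bot_iff]
      intro x hx
      obtain ⟨hxQ, hx'⟩ := mem_inf.mp hx
      obtain ⟨s, hs, rfl⟩ := (mem_smul_pointwise_iff_exists _ _ _).mp hx'
      rw [MulAut.smul_def, MulAut.conj_apply] at hxQ ⊢
      rw [mem_bot]
      by_contra hne
      obtain ⟨k, hk, t, ht, rfl⟩ := hdec g
      set s' := t * s * t⁻¹ with hs'
      have hs'Q : s' ∈ Q := mul_mem (mul_mem ht hs) (inv_mem ht)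
      have hx : k * t * s * (k * t)⁻¹ = k * s' * k⁻¹ := by rw [hs']; group
      rw [hx] at hne hxQ
      have hs'1 : s' ≠ 1 := fun e => hne (by rw [e, mul_one, mul_inv_cancel])
      have h1 : k * s' * k⁻¹ * s'⁻¹ = 1 := hdis _ (mul_mem hxQ (inv_mem hs'Q)) (by
        rw [show k * s' * k⁻¹ * s'⁻¹ = k * (s' * k⁻¹ * s'⁻¹) by group]
        exact mul_mem hk (hKbn.conj_mem _ (inv_mem hk) s'))
      refine hg ?_
      rw [hfree s' hs'Q hs'1 k hk (mul_inv_eq_iff_eq_mul.mp (mul_inv_eq_one.mp h1)), one_mul]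
      exact ht
    · ext x
      constructor
      · intro hx
        rcases eq_or_ne x 1 with rfl | hne
        · exact Or.inl rfl
        refine Or.inr fun g hxg => ?_
        obtain ⟨s, hs, rfl⟩ := (mem_smul_pointwise_iff_exists _ _ _).mp hxg
        rw [SetLike.mem_coe, MulAut.smul_def, MulAut.conj_apply] at hx
        refine hne ?_
        have hsK : s ∈ Kb := by simpa [mul_assoc] using hKbn.conj_mem _ hx g⁻¹
        rw [MulAut.smul_def, MulAut.conj_apply, hdis s hs hsK, mul_one, mul_inv_cancel]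
      · intro hx
        by_contra hxK
        rcases hx with rfl | hx
        · exact hxK (one_mem Kb)
        obtain ⟨k, hk, t, ht, rfl⟩ := hdec x
        have ht1 : t ≠ 1 := fun e => hxK (by rw [e, mul_one]; exact hk)
        let f : Kb → Kb := fun a => ⟨a * t * (a : N ⧸ center N)⁻¹ * t⁻¹, by
          rw [show (a : N ⧸ center N) * t * (a : N ⧸ center N)⁻¹ * t⁻¹ =
            a * (t * (a : N ⧸ center N)⁻¹ * t⁻¹) by group]
          exact mul_mem a.2 (hKbn.conj_mem _ (inv_mem a.2) t)⟩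
        have hf : Function.Injective f := by
          intro a b hab
          have e : (a : N ⧸ center N) * t * (a : N ⧸ center N)⁻¹ =
              b * t * (b : N ⧸ center N)⁻¹ := mul_right_cancel (congrArg Subtype.val hab)
          have h1 : (b : N ⧸ center N)⁻¹ * a = 1 := by
            refine hfree t ht ht1 _ (mul_mem (inv_mem b.2) a.2) ?_
            calc (b : N ⧸ center N)⁻¹ * a * t
                = (b : N ⧸ center N)⁻¹ * ((a : N ⧸ center N) * t * (a : N ⧸ center N)⁻¹) * a := by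
                  group
              _ = t * ((b : N ⧸ center N)⁻¹ * a) := by rw [e]; group
          exact Subtype.ext (inv_mul_eq_one.mp h1).symm
        obtain ⟨a, ha⟩ := Finite.surjective_of_injective hf ⟨k, hk⟩
        refine hx a ((mem_smul_pointwise_iff_exists _ _ _).mpr ⟨t, ht, ?_⟩)
        rw [MulAut.smul_def, MulAut.conj_apply]
        exact mul_inv_eq_iff_eq_mul.mp (congrArg Subtype.val ha)
    · refine ⟨⟨?_⟩⟩
      rintro ⟨_, a, ha, rfl⟩ ⟨_, b, hb, rfl⟩
      refine Subtype.ext ?_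
      show π a * π b = π b * π a
      rw [← map_mul, ← map_mul]
      exact congrArg π (Subtype.ext (mem_centralizer_iff.mp (hKab hb) a ha))
    · rintro _ ⟨a, ha, rfl⟩
      rw [← map_pow, hπ1]
      exact hKp a ha

end Cfsg.Agent.RelCentCoatom
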